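import Groth.Agent.TensorMod.FinLocFree
import Groth.Agent.QCohBase.Localization
import Groth.Prelude.Def_FlatMod2
import Mathlib.RingTheory.LocalRing.Module

/-!
# Direct summands of free modules of finite rank are finite locally free
-/

set_option autoImplicit false
set_option linter.style.haveILetI false

noncomputable section

universe u

open CategoryTheory CategoryTheory.Limits AlgebraicGeometry TopologicalSpace Opposite
open Groth.Agent.QCohBase

namespace Groth.Agent.FlatModLib

variable {X : Scheme.{u}}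

/-- The morphism given by a global section. -/
def mulSec (M : X.Modules) (m : Γ(M, (⊤ : X.Opens))) : Coh.structureModule X ⟶ M :=
  (SheafOfModules.unitHomEquiv M).symm
    ⟨fun V => mres M (le_top : V.unop ≤ ⊤) m, fun {V W} i => mres_mres M le_top i.unop.le m⟩

lemma mulSec_app (M : X.Modules) (m : Γ(M, (⊤ : X.Opens))) (W : X.Opens) (r : Γ(X, W)) :
    (mulSec M m).app W r = r • mres M (le_top : W ≤ ⊤) m := by
  have h1 : (mulSec M m).app W (1 : Γ(X, W)) = mres M (le_top : W ≤ ⊤) m :=
    congrArg (fun σ : M.sections => σ.val (op W)) ((SheafOfModules.unitHomEquiv M).apply_symm_apply _)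
  have h2 := Scheme.Modules.Hom.app_smul (mulSec M m) (U := W) r
    (show Γ(Coh.structureModule X, W) from (1 : Γ(X, W)))
  erw [h1] at h2
  refine Eq.trans ?_ h2
  congr 1
  exact (mul_one r).symm

lemma mulSec_comp {M N : X.Modules} (m : Γ(M, (⊤ : X.Opens))) (φ : M ⟶ N) :
    mulSec M m ≫ φ = mulSec N (φ.app ⊤ m) := by
  ext W r
  rw [Scheme.Modules.Hom.comp_app, ConcreteCategory.comp_apply, mulSec_app, mulSec_app,
    Scheme.Modules.Hom.app_smul]
  congr 1
  exact ConcreteCategory.congr_hom (φ.mapPresheaf.naturality (homOfLE (le_top : W ≤ ⊤)).op) m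

lemma app_sum {M N : X.Modules} {ι : Type*} (s : Finset ι) (f : ι → (M ⟶ N)) (W : X.Opens) (x : Γ(M, W)) :
    (∑ i ∈ s, f i).app W x = ∑ i ∈ s, (f i).app W x := by
  classical
  induction s using Finset.induction_on with
  | empty => simp
  | insert a s has ih => rw [Finset.sum_insert has, Finset.sum_insert has, ← ih]; rfl

/-- A morphism into the structure sheaf on sections. -/
def coord {M : X.Modules} (a : M ⟶ Coh.structureModule X) (W : X.Opens) (m : Γ(M, W)) : Γ(X, W) :=
  a.app W m

lemma coord_mres {M : X.Modules} (a : M ⟶ Coh.structureModule X) {V W : X.Opens} (h : W ≤ V) (m : Γ(M, V)) :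
    coord a W (mres M h m) = ores h (coord a V m) :=
  ConcreteCategory.congr_hom (a.mapPresheaf.naturality (homOfLE h).op) m

lemma coord_smul {M : X.Modules} (a : M ⟶ Coh.structureModule X) (W : X.Opens) (r : Γ(X, W)) (m : Γ(M, W)) :
    coord a W (r • m) = r * coord a W m :=
  Scheme.Modules.Hom.app_smul a r m

lemma coord_sum {M : X.Modules} (a : M ⟶ Coh.structureModule X) (W : X.Opens) {ι : Type*} (s : Finset ι)
    (m : ι → Γ(M, W)) : coord a W (∑ i ∈ s, m i) = ∑ i ∈ s, coord a W (m i) :=
  map_sum (a.app W).hom m s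

/-- A module with a dual basis is free. -/
lemma nonempty_iso_freeMod (M : X.Modules) (r : ℕ) (w : Fin r → (M ⟶ Coh.structureModule X))
    (t : Fin r → Γ(M, (⊤ : X.Opens))) (hwt : ∀ k l, coord (w k) ⊤ (t l) = if k = l then 1 else 0)
    (hm : ∀ (W : X.Opens) (m : Γ(M, W)), ∑ k, coord (w k) W m • mres M (le_top : W ≤ ⊤) (t k) = m) :
    Nonempty (M ≅ FlatMod.freeMod X r) := by
  let ik : Fin r → (Coh.structureModule X ⟶ FlatMod.freeMod X r) :=
    fun k => Sigma.ι (fun _ : Fin r => Coh.structureModule X) k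
  refine ⟨⟨∑ k, w k ≫ ik k, Sigma.desc fun k => mulSec M (t k), ?_, ?_⟩⟩
  · rw [Preadditive.sum_comp]
    ext W m
    rw [app_sum]
    refine Eq.trans ?_ (hm W m)
    refine Finset.sum_congr rfl fun k _ => ?_
    rw [Category.assoc]
    erw [Sigma.ι_desc]
    rw [Scheme.Modules.Hom.comp_app, ConcreteCategory.comp_apply]
    exact mulSec_app M (t k) W (coord (w k) W m)
  · refine Sigma.hom_ext _ _ fun l => ?_
    erw [Sigma.ι_desc_assoc, Category.comp_id, Preadditive.comp_sum]
    have h1 : ∀ k, mulSec M (t l) ≫ w k = if k = l then 𝟙 (Coh.structureModule X) else 0 := fun k => by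
      rw [mulSec_comp]
      ext W x
      rw [mulSec_app]
      have e : mres (Coh.structureModule X) (le_top : W ≤ ⊤) ((w k).app ⊤ (t l)) =
          (if k = l then (1 : Γ(X, W)) else 0) := by
        change ores (le_top : W ≤ ⊤) (coord (w k) ⊤ (t l)) = _
        rw [hwt, apply_ite (ores (le_top : W ≤ ⊤)), map_one, map_zero]
      rw [e]
      split_ifs with h
      · exact mul_one (show Γ(X, W) from x)
      · exact mul_zero (show Γ(X, W) from x)
    rw [Finset.sum_eq_single l]
    · rw [← Category.assoc, h1, if_pos rfl, Category.id_comp]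
    · intro k _ hk
      rw [← Category.assoc, h1, if_neg hk, zero_comp]
    · exact fun h => absurd (Finset.mem_univ l) h

lemma exists_nhd_germ {ι : Type*} [Finite ι] (x : X) (z : ι → X.presheaf.stalk x) :
    ∃ (W : X.Opens) (hx : x ∈ W) (f : ι → Γ(X, W)), ∀ i, X.presheaf.germ W x hx (f i) = z i := by
  choose W hW f hf using fun i => TopCat.Presheaf.exists_germ_eq X.presheaf (z i)
  refine ⟨⟨⋂ i, (W i : Set X), isOpen_iInter_of_finite fun i => (W i).isOpen⟩, Set.mem_iInter.2 hW,
    fun i => ores (fun y hy => Set.mem_iInter.1 hy i) (f i), fun i => ?_⟩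
  exact (TopCat.Presheaf.germ_res_apply X.presheaf _ x _ _).trans (hf i)

lemma exists_nhd_eq {ι : Type*} [Finite ι] (x : X) {W : X.Opens} (hx : x ∈ W) (f g : ι → Γ(X, W))
    (h : ∀ i, X.presheaf.germ W x hx (f i) = X.presheaf.germ W x hx (g i)) :
    ∃ (V : X.Opens) (hV : V ≤ W), x ∈ V ∧ ∀ i, ores hV (f i) = ores hV (g i) := by
  choose V hV i₁ i₂ hfg using fun i => TopCat.Presheaf.germ_eq X.presheaf x hx hx _ _ (h i)
  let V' : X.Opens := ⟨⋂ i, (V i : Set X), isOpen_iInter_of_finite fun i => (V i).isOpen⟩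
  refine ⟨V' ⊓ W, inf_le_right, ⟨Set.mem_iInter.2 hV, hx⟩, fun i => ?_⟩
  have hle : V' ⊓ W ≤ V i := fun y hy => Set.mem_iInter.1 hy.1 i
  have h1 := congrArg (ores hle) (hfg i)
  exact ((ores_ores (i₁ i).le hle (f i)).symm.trans h1).trans (ores_ores (i₂ i).le hle (g i))

/-- A module with coordinates in a free module of finite rank is finite locally free. -/
theorem isFinLocFree_of_coords (M : X.Modules) (n : ℕ) (a : Fin n → (M ⟶ Coh.structureModule X))
    (s : Fin n → Γ(M, (⊤ : X.Opens)))
    (hm : ∀ (W : X.Opens) (m : Γ(M, W)), ∑ j, coord (a j) W m • mres M (le_top : W ≤ ⊤) (s j) = m) :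
    FlatMod.IsFinLocFree M := by
  intro x
  let R := X.presheaf.stalk x
  let e : Fin n → Fin n → R := fun j l => X.presheaf.germ ⊤ x trivial (coord (a l) ⊤ (s j))
  let φ : (Fin n → R) →ₗ[R] (Fin n → R) :=
    { toFun := fun c l => ∑ j, c j * e j l
      map_add' := fun c d => by ext l; simp [add_mul, Finset.sum_add_distrib]
      map_smul' := fun r c => by ext l; simp [Finset.mul_sum, mul_assoc] }
  have hee : ∀ j l, ∑ i, e j i * e i l = e j l := fun j l => by
    simp only [e, ← map_mul, ← map_sum]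
    congr 1
    conv_rhs => rw [← hm ⊤ (s j)]
    rw [coord_sum]
    refine Finset.sum_congr rfl fun i _ => ?_
    rw [coord_smul, mres_refl]
  have hφφ : ∀ c, φ (φ c) = φ c := fun c => by
    ext l
    change ∑ i, (∑ j, c j * e j i) * e i l = ∑ j, c j * e j l
    simp only [Finset.sum_mul, mul_assoc]
    rw [Finset.sum_comm]
    simp only [← Finset.mul_sum, hee]
  let P := LinearMap.range φ
  haveI : Module.Projective R P := Module.Projective.of_split P.subtype φ.rangeRestrict (by
    apply LinearMap.ext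
    rintro ⟨_, c, rfl⟩
    exact Subtype.ext (hφφ c))
  haveI : Module.Finite R P := Module.Finite.range φ
  haveI : Module.Free R P := Module.free_of_flat_of_isLocalRing
  let b := (Module.Free.chooseBasis R P).reindex (Fintype.equivFin _)
  set r := Fintype.card (Module.Free.ChooseBasisIndex R P)
  choose d hd using fun k : Fin r => ((b k).2 : (b k).1 ∈ LinearMap.range φ)
  let row : Fin n → P := fun j => ⟨fun l => e j l, Pi.single j 1, by
    ext l
    change ∑ i, (Pi.single j 1 : Fin n → R) i * e i l = e j l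
    rw [Finset.sum_eq_single j (fun i _ hi => by simp [hi]) (fun h => absurd (Finset.mem_univ j) h)]
    simp⟩
  let c : Fin n → Fin r → R := fun j k => b.repr (row j) k
  have hrow : ∀ j l, ∑ k, c j k * (b k).1 l = e j l := fun j l => by
    have h1 := congrArg (fun q : P => q.1 l) (b.sum_repr (row j))
    simp only [AddSubmonoidClass.coe_finsetSum, Finset.sum_apply, SetLike.val_smul, Pi.smul_apply,
      smul_eq_mul] at h1
    exact h1
  have hbl : ∀ l k, ∑ j, (b l).1 j * c j k = if k = l then 1 else 0 := fun l k => by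
    have h1 : b l = ∑ j, (b l).1 j • row j := by
      refine Subtype.ext (funext fun i => ?_)
      have h2 := congrFun ((congrArg φ (hd l)).symm.trans ((hφφ (d l)).trans (hd l))) i
      change ∑ j, (b l).1 j * e j i = (b l).1 i at h2
      rw [AddSubmonoidClass.coe_finsetSum, Finset.sum_apply]
      exact h2.symm
    have h2 := congrArg (fun q : P => b.repr q k) h1
    simp only [map_sum, map_smul, Finsupp.coe_finsetSum, Finset.sum_apply, Finsupp.smul_apply,
      smul_eq_mul, b.repr_self, Finsupp.single_apply] at h2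
    rw [← h2]
    simp [eq_comm]
  obtain ⟨W, hxW, cd, hcd⟩ := exists_nhd_germ x
    (Sum.elim (fun p : Fin n × Fin r => c p.1 p.2) (fun p : Fin r × Fin n => d p.1 p.2))
  let C : Fin n → Fin r → Γ(X, W) := fun j k => cd (Sum.inl (j, k))
  let t : Fin r → Γ(M, W) := fun k => ∑ j, cd (Sum.inr (k, j)) • mres M (le_top : W ≤ ⊤) (s j)
  have hres : ∀ j l, X.presheaf.germ W x hxW (ores (le_top : W ≤ ⊤) (coord (a l) ⊤ (s j))) = e j l :=
    fun j l => TopCat.Presheaf.germ_res_apply X.presheaf _ x hxW _
  have ht : ∀ l k, X.presheaf.germ W x hxW (coord (a l) W (t k)) = (b k).1 l := fun l k => by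
    rw [coord_sum, map_sum, ← hd k]
    refine Finset.sum_congr rfl fun j _ => ?_
    rw [coord_smul, map_mul, coord_mres, hres, hcd]
    rfl
  obtain ⟨V, hVW, hxV, hV⟩ := exists_nhd_eq x hxW
    (Sum.elim (fun p : Fin r × Fin r => ∑ j, coord (a j) W (t p.2) * C j p.1)
      (fun p : Fin n × Fin n => ∑ k, C p.1 k * coord (a p.2) W (t k)))
    (Sum.elim (fun p : Fin r × Fin r => if p.1 = p.2 then 1 else 0)
      (fun p : Fin n × Fin n => ores (le_top : W ≤ ⊤) (coord (a p.2) ⊤ (s p.1))))
    (by
      rintro (⟨k, l⟩ | ⟨j, l⟩)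
      · simp only [Sum.elim_inl, map_sum, map_mul, ht, C, hcd]
        rw [hbl, apply_ite (X.presheaf.germ W x hxW).hom, map_one, map_zero]
      · simp only [Sum.elim_inr, map_sum, map_mul, ht, C, hcd, Sum.elim_inl, hres]
        exact hrow j l)
  -- on `V` the sections `t` form a basis with dual functionals `∑ j, C j k • a j`
  have hA : ∀ k l, ∑ j, coord (a j) V (mres M hVW (t l)) * ores hVW (C j k) = if k = l then 1 else 0 :=
    fun k l => by
      have h1 := hV (Sum.inl (k, l))
      simp only [Sum.elim_inl, map_sum, map_mul] at h1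
      rw [apply_ite (ores hVW), map_one, map_zero] at h1
      simpa only [coord_mres] using h1
  have hB : ∀ j, ∑ k, ores hVW (C j k) • mres M hVW (t k) = mres M (le_top : V ≤ ⊤) (s j) := fun j => by
    rw [← hm V (∑ k, ores hVW (C j k) • mres M hVW (t k)), ← hm V (mres M (le_top : V ≤ ⊤) (s j))]
    refine Finset.sum_congr rfl fun l _ => ?_
    congr 1
    have h1 := hV (Sum.inr (j, l))
    simp only [Sum.elim_inr, map_sum, map_mul, ores_ores] at h1
    rw [coord_mres, coord_sum, ← h1]
    exact Finset.sum_congr rfl fun k _ => by rw [coord_smul, coord_mres]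
  refine ⟨V, r, hxV, ?_⟩
  let G := M.restrict V.ι
  have htop : V.ι ''ᵁ (⊤ : V.toScheme.Opens) ≤ V := (Scheme.Opens.ι_image_top V).le
  let ψ := fun A : V.toScheme.Opens => (V.ι.appIso A).hom.hom
  let a' : Fin n → (G ⟶ Coh.structureModule V.toScheme) := fun j =>
    (Scheme.Modules.restrictFunctor V.ι).map (a j) ≫ (Scheme.Modules.restrictUnitIso V.ι).hom
  let C' : Fin n → Fin r → Γ(V.toScheme, (⊤ : V.toScheme.Opens)) := fun j k =>
    ψ ⊤ (ores htop (ores hVW (C j k)))
  let t' : Fin r → Γ(G, (⊤ : V.toScheme.Opens)) := fun k => mres M htop (mres M hVW (t k))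
  let w : Fin r → (G ⟶ Coh.structureModule V.toScheme) :=
    fun k => ∑ j, a' j ≫ mulSec (Coh.structureModule V.toScheme) (C' j k)
  have hw : ∀ k (A : V.toScheme.Opens) (m : Γ(M, V.ι ''ᵁ A)),
      coord (w k) A (show Γ(G, A) from m) =
        ψ A (∑ j, coord (a j) (V.ι ''ᵁ A) m *
          ores ((V.ι.image_mono le_top).trans htop) (ores hVW (C j k))) := fun k A m => by
    rw [map_sum]
    refine (app_sum _ _ A _).trans (Finset.sum_congr rfl fun j _ => ?_)
    rw [map_mul]
    refine (mulSec_app (Coh.structureModule V.toScheme) (C' j k) A (ψ A (coord (a j) (V.ι ''ᵁ A) m))).trans ?_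
    refine congrArg (ψ A (coord (a j) (V.ι ''ᵁ A) m) * ·) ?_
    change ores (le_top : A ≤ ⊤) (ψ ⊤ (ores htop (ores hVW (C j k)))) = _
    rw [← ores_ores htop (V.ι.image_mono (le_top : A ≤ ⊤))]
    exact (ConcreteCategory.congr_hom (V.ι.appIso_hom_naturality (homOfLE (le_top : A ≤ ⊤)).op) _).symm
  refine nonempty_iso_freeMod G r w t' (fun k l => ?_) fun A m => ?_
  · refine (hw k ⊤ _).trans ?_
    have h1 := congrArg (ores htop) (hA k l)
    simp only [map_sum, map_mul] at h1
    simp only [t', coord_mres] at h1 ⊢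
    erw [h1]
    rw [apply_ite (ores htop), map_one, map_zero, apply_ite (ψ ⊤), map_one, map_zero]
  · have hAV : V.ι ''ᵁ A ≤ V := (V.ι.image_mono le_top).trans htop
    have key : ∑ k, (∑ j, coord (a j) (V.ι ''ᵁ A) (show Γ(M, V.ι ''ᵁ A) from m) * ores hAV (ores hVW (C j k))) •
        mres M hAV (mres M hVW (t k)) = (show Γ(M, V.ι ''ᵁ A) from m) := by
      conv_rhs => rw [← hm _ (show Γ(M, V.ι ''ᵁ A) from m)]
      simp only [Finset.sum_smul, mul_smul]
      rw [Finset.sum_comm]
      refine Finset.sum_congr rfl fun j _ => ?_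
      rw [← Finset.smul_sum]
      congr 1
      have h1 := congrArg (mres M hAV) (hB j)
      simp only [map_sum, mres_smul] at h1
      rw [mres_mres M le_top hAV] at h1
      exact h1
    refine Eq.trans ?_ key
    refine Finset.sum_congr rfl fun k _ => ?_
    rw [hw k A]
    change ((V.ι.appIso A).inv (ψ A _)) • mres M ((V.ι.image_mono (le_top : A ≤ ⊤))) (t' k) = _
    rw [show (V.ι.appIso A).inv (ψ A _) = _ from (V.ι.appIso A).hom_inv_id_apply _]
    exact congrArg _ (mres_mres M htop (V.ι.image_mono le_top) _)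

end Groth.Agent.FlatModLib

namespace Groth.Agent.FlatModLib

/-- A retract of a free module of finite rank is finite locally free. -/
theorem isFinLocFree_of_retract {X : Scheme.{u}} (M : X.Modules) (n : ℕ) (i : M ⟶ FlatMod.freeMod X n)
    (p : FlatMod.freeMod X n ⟶ M) (h : i ≫ p = 𝟙 M) : FlatMod.IsFinLocFree M := by
  classical
  let π : Fin n → (FlatMod.freeMod X n ⟶ Coh.structureModule X) := fun j =>
    Sigma.desc fun k => if k = j then 𝟙 (Coh.structureModule X) else 0
  let ι : Fin n → (Coh.structureModule X ⟶ FlatMod.freeMod X n) := fun j =>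
    Sigma.ι (fun _ : Fin n => Coh.structureModule X) j
  have hπ : ∑ j, π j ≫ ι j = 𝟙 _ := by
    refine Sigma.hom_ext _ _ fun k => ?_
    erw [Preadditive.comp_sum, Category.comp_id]
    rw [Finset.sum_eq_single k]
    · erw [Sigma.ι_desc_assoc]
      rw [if_pos rfl, Category.id_comp]
    · intro j _ hj
      erw [Sigma.ι_desc_assoc]
      rw [if_neg (Ne.symm hj), zero_comp]
    · exact fun h => absurd (Finset.mem_univ k) h
  refine isFinLocFree_of_coords M n (fun j => i ≫ π j)
    (fun j => (ι j ≫ p).app ⊤ (show Γ(Coh.structureModule X, ⊤) from (1 : Γ(X, ⊤)))) fun W m => ?_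
  have h1 : ∑ j, (i ≫ π j) ≫ ι j ≫ p = 𝟙 M := by
    simp only [Category.assoc, ← Preadditive.comp_sum]
    simp only [← Category.assoc (π _), ← Preadditive.sum_comp]
    rw [hπ, Category.id_comp, h]
  have h2 := ConcreteCategory.congr_hom (congrArg (fun φ => Scheme.Modules.Hom.app φ W) h1) m
  refine Eq.trans ?_ h2
  rw [app_sum]
  refine Finset.sum_congr rfl fun j _ => ?_
  rw [Scheme.Modules.Hom.comp_app (i ≫ π j), ConcreteCategory.comp_apply]
  have h3 : mres M (le_top : W ≤ ⊤) ((ι j ≫ p).app ⊤ (show Γ(Coh.structureModule X, ⊤) from (1 : Γ(X, ⊤)))) =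
      (ι j ≫ p).app W (show Γ(Coh.structureModule X, W) from (1 : Γ(X, W))) := by
    refine (ConcreteCategory.congr_hom ((ι j ≫ p).mapPresheaf.naturality (homOfLE (le_top : W ≤ ⊤)).op) _).symm.trans ?_
    exact congrArg ((ι j ≫ p).app W) (map_one (ores (le_top : W ≤ ⊤)))
  rw [h3, ← Scheme.Modules.Hom.app_smul]
  refine congrArg ((ι j ≫ p).app W) ?_
  exact mul_one (coord (i ≫ π j) W m)

end Groth.Agent.FlatModLib
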